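import Mathlib.RingTheory.DividedPowers.Basic
import Mathlib.NumberTheory.Padics.PadicVal.Basic
import Mathlib.Algebra.MonoidAlgebra.Basic
import Mathlib.Algebra.MonoidAlgebra.Module
import Mathlib.Algebra.Order.Field.Rat
import Mathlib.Tactic
import Mathlib.Data.Nat.Prime.Factorial

/-! Divided powers from the `p`-th divided power over a `ℤ_(p)`-algebra. -/

set_option autoImplicit false
set_option linter.unusedSectionVars false


namespace Groth.Agent.DPowGammaP

universe u

variable (p : ℕ)

/-- `q` has a presentation with denominator prime to `p` -/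
def Good (q : ℚ) : Prop := ∃ (a : ℤ) (b : ℕ), ¬ p ∣ b ∧ q * b = a

variable {p} [hp : Fact p.Prime]

theorem good_natCast (n : ℕ) : Good p (n : ℚ) := ⟨n, 1, hp.out.not_dvd_one, by simp⟩

theorem good_inv_natCast {n : ℕ} (hn : ¬ p ∣ n) : Good p (1 / (n : ℚ)) := by
  refine ⟨1, n, hn, ?_⟩
  have : (n : ℚ) ≠ 0 := Nat.cast_ne_zero.2 fun h => hn (h ▸ dvd_zero p)
  simp [this]

theorem good_add {q r : ℚ} (hq : Good p q) (hr : Good p r) : Good p (q + r) := by
  obtain ⟨a, b, hb, h⟩ := hq
  obtain ⟨a', b', hb', h'⟩ := hr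
  exact ⟨a * b' + a' * b, b * b', fun hd => (hp.out.dvd_mul.1 hd).elim hb hb', by
    push_cast; rw [← h, ← h']; ring⟩

theorem good_mul {q r : ℚ} (hq : Good p q) (hr : Good p r) : Good p (q * r) := by
  obtain ⟨a, b, hb, h⟩ := hq
  obtain ⟨a', b', hb', h'⟩ := hr
  exact ⟨a * a', b * b', fun hd => (hp.out.dvd_mul.1 hd).elim hb hb', by
    push_cast; rw [← h, ← h']; ring⟩

theorem good_pow {q : ℚ} (hq : Good p q) (n : ℕ) : Good p (q ^ n) := by
  induction n with
  | zero => simpa using good_natCast (p := p) 1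
  | succ n ih => rw [pow_succ]; exact good_mul ih hq

theorem choose_fact (i j : ℕ) : (i + j).choose i * i.factorial * j.factorial = (i + j).factorial := by
  rw [Nat.choose_symm_add]
  exact Nat.add_choose_mul_factorial_mul_factorial i j

variable {A : Type u} [CommRing A] (hA : ∀ n : ℕ, ¬ p ∣ n → IsUnit (n : A))

open scoped Classical in
/-- the map `ℤ_(p) → A`, extended by zero -/
noncomputable def phi (p : ℕ) (A : Type u) [CommRing A] (q : ℚ) : A :=
  if h : Good p q then (h.choose : A) * Ring.inverse ((h.choose_spec.choose : ℕ) : A) else 0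

include hA in
theorem phi_spec {q : ℚ} (hq : Good p q) {a : ℤ} {b : ℕ} (h : q * b = a) : phi p A q * b = a := by
  rw [phi, dif_pos hq]
  obtain ⟨hb', h'⟩ := hq.choose_spec.choose_spec
  set a' := hq.choose
  set b' := hq.choose_spec.choose
  have h1 : a' * (b : ℤ) = a * (b' : ℤ) := by
    have : ((a' * (b : ℤ) : ℤ) : ℚ) = ((a * (b' : ℤ) : ℤ) : ℚ) := by push_cast; rw [← h, ← h']; ring
    exact_mod_cast this
  have h2 : (a' : A) * (b : A) = (a : A) * (b' : A) := by exact_mod_cast congrArg (Int.cast : ℤ → A) h1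
  rw [mul_right_comm, h2, mul_assoc, Ring.mul_inverse_cancel _ (hA b' hb'), mul_one]

include hA in
theorem phi_eq {q : ℚ} (hq : Good p q) {z : A} {a : ℤ} {b : ℕ} (hb : ¬ p ∣ b) (h : q * b = a)
    (hz : z * b = a) : phi p A q = z :=
  (hA b hb).mul_right_cancel (by rw [phi_spec hA hq h, hz])

include hA in
theorem phi_natCast (n : ℕ) : phi p A (n : ℚ) = n :=
  phi_eq hA (good_natCast n) (a := n) hp.out.not_dvd_one (by simp) (by simp)

include hA in
theorem phi_zero : phi p A 0 = 0 := by simpa using phi_natCast hA (p := p) 0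

include hA in
theorem phi_one : phi p A 1 = 1 := by simpa using phi_natCast hA (p := p) 1

include hA in
theorem phi_mul {q r : ℚ} (hq : Good p q) (hr : Good p r) : phi p A (q * r) = phi p A q * phi p A r := by
  obtain ⟨a, b, hb, h⟩ := id hq
  obtain ⟨a', b', hb', h'⟩ := id hr
  refine phi_eq hA (good_mul hq hr) (a := a * a') (b := b * b') (fun hd => (hp.out.dvd_mul.1 hd).elim hb hb')
    (by push_cast; rw [← h, ← h']; ring) ?_
  push_cast
  rw [mul_mul_mul_comm, phi_spec hA hq h, phi_spec hA hr h']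

include hA in
theorem phi_add {q r : ℚ} (hq : Good p q) (hr : Good p r) : phi p A (q + r) = phi p A q + phi p A r := by
  obtain ⟨a, b, hb, h⟩ := id hq
  obtain ⟨a', b', hb', h'⟩ := id hr
  refine phi_eq hA (good_add hq hr) (a := a * b' + a' * b) (b := b * b')
    (fun hd => (hp.out.dvd_mul.1 hd).elim hb hb') (by push_cast; rw [← h, ← h']; ring) ?_
  push_cast
  rw [← phi_spec hA hq h, ← phi_spec hA hr h']
  ring

include hA in
theorem phi_pow {q : ℚ} (hq : Good p q) (n : ℕ) : phi p A (q ^ n) = phi p A q ^ n := by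
  induction n with
  | zero => simpa using phi_one hA
  | succ n ih => rw [pow_succ, phi_mul hA (good_pow hq n) hq, ih, pow_succ]

include hA in
theorem phi_inv_natCast {n : ℕ} (hn : ¬ p ∣ n) : phi p A (1 / (n : ℚ)) = Ring.inverse (n : A) := by
  have h0 : (n : ℚ) ≠ 0 := Nat.cast_ne_zero.2 fun h => hn (h ▸ dvd_zero p)
  exact phi_eq hA (good_inv_natCast hn) (a := 1) hn (by simp [h0])
    (by rw [Ring.inverse_mul_cancel _ (hA n hn)]; simp)

section e

/-- `x ^ n = e n * M n x` -/
def e (p : ℕ) : ℕ → ℕ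
  | 0 => 1
  | n + 1 => if h : 1 < p then p.factorial ^ ((n + 1) / p) * e p ((n + 1) / p) else 1
decreasing_by exact Nat.div_lt_self (Nat.succ_pos n) h

theorem e_zero : e p 0 = 1 := by rw [e]

theorem e_eq (n : ℕ) : e p n = p.factorial ^ (n / p) * e p (n / p) := by
  cases n with
  | zero => simp [e_zero]
  | succ n => rw [e, dif_pos hp.out.one_lt]

theorem e_of_lt {n : ℕ} (h : n < p) : e p n = 1 := by rw [e_eq, Nat.div_eq_of_lt h]; simp [e_zero]

theorem e_mul_p (q : ℕ) : e p (p * q) = p.factorial ^ q * e p q := by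
  rw [e_eq (p * q), Nat.mul_div_cancel_left _ hp.out.pos]

theorem e_pos (n : ℕ) : 0 < e p n := by
  induction n using Nat.strongRecOn with
  | ind n ih =>
    rcases Nat.eq_zero_or_pos n with rfl | hn
    · rw [e_zero]; exact one_pos
    · rw [e_eq]
      exact Nat.mul_pos (pow_pos p.factorial_pos _) (ih _ (Nat.div_lt_self hn hp.out.one_lt))

theorem padicValNat_e (n : ℕ) : padicValNat p (e p n) = padicValNat p n.factorial := by
  induction n using Nat.strongRecOn with
  | ind n ih =>
    rcases Nat.eq_zero_or_pos n with rfl | hn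
    · simp [e_zero]
    · have h1 : padicValNat p p.factorial = 1 := by
        have := padicValNat_factorial_mul (p := p) 1
        simpa using this
      rw [e_eq, padicValNat.mul (pow_ne_zero _ p.factorial_ne_zero) (e_pos _).ne', padicValNat.pow,
        h1, mul_one, ih _ (Nat.div_lt_self hn hp.out.one_lt)]
      conv_rhs => rw [← Nat.div_add_mod n p]
      rw [padicValNat_factorial_mul_add _ (Nat.mod_lt _ hp.out.pos), padicValNat_factorial_mul, add_comm]

theorem good_div {a b : ℕ} (hb : b ≠ 0) (h : padicValNat p b ≤ padicValNat p a) : Good p ((a : ℚ) / b) := by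
  obtain ⟨c, hc⟩ : p ^ padicValNat p b ∣ a := dvd_trans (pow_dvd_pow _ h) pow_padicValNat_dvd
  obtain ⟨b', hb'⟩ : p ^ padicValNat p b ∣ b := pow_padicValNat_dvd
  refine ⟨c, b', fun hd => pow_succ_padicValNat_not_dvd (p := p) hb ?_, ?_⟩
  · obtain ⟨t, ht⟩ := hd
    exact ⟨t, by conv_lhs => rw [hb', ht, ← mul_assoc, ← pow_succ]⟩
  · have h0 : (b : ℚ) ≠ 0 := Nat.cast_ne_zero.2 hb
    rw [div_mul_eq_mul_div, div_eq_iff h0]
    conv_lhs => rw [hc]
    conv_rhs => rw [hb']
    push_cast
    ring

/-- the unit `e n / n!` -/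
noncomputable def u (p n : ℕ) : ℚ := (e p n : ℚ) / n.factorial

theorem good_u (n : ℕ) : Good p (u p n) := good_div n.factorial_ne_zero (padicValNat_e n).ge

theorem good_u_inv (n : ℕ) : Good p ((n.factorial : ℚ) / e p n) := good_div (e_pos n).ne' (padicValNat_e n).le

end e

variable (d : A → A)

/-- `x ^ n / e n` -/
def M (p : ℕ) (d : A → A) : ℕ → A → A
  | 0, _ => 1
  | n + 1, x => if h : 1 < p then M p d ((n + 1) / p) (d x) * x ^ ((n + 1) % p) else 0
decreasing_by exact Nat.div_lt_self (Nat.succ_pos n) h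

theorem M_zero (x : A) : M p d 0 x = 1 := by rw [M]

theorem M_eq (n : ℕ) (x : A) : M p d n x = M p d (n / p) (d x) * x ^ (n % p) := by
  cases n with
  | zero => simp [M_zero]
  | succ n => rw [M, dif_pos hp.out.one_lt]

theorem M_of_lt {n : ℕ} (h : n < p) (x : A) : M p d n x = x ^ n := by
  rw [M_eq, Nat.div_eq_of_lt h, Nat.mod_eq_of_lt h, M_zero, one_mul]

theorem M_mul_p (q : ℕ) (x : A) : M p d (p * q) x = M p d q (d x) := by
  rw [M_eq d (p * q), Nat.mul_div_cancel_left _ hp.out.pos, Nat.mul_mod_right, pow_zero, mul_one]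

theorem div_mod_add (q r : ℕ) (hr : r < p) : (p * q + r) / p = q ∧ (p * q + r) % p = r :=
  ⟨by rw [Nat.mul_add_div hp.out.pos, Nat.div_eq_of_lt hr, add_zero],
    by rw [Nat.mul_add_mod, Nat.mod_eq_of_lt hr]⟩

variable {I : Ideal A} (hdI : ∀ x ∈ I, d x ∈ I) (h1 : ∀ x ∈ I, (p.factorial : A) * d x = x ^ p)
  (h2 : ∀ (a x : A), x ∈ I → d (a * x) = a ^ p * d x)

include hdI in
theorem M_mem {n : ℕ} (hn : n ≠ 0) : ∀ {x : A}, x ∈ I → M p d n x ∈ I := by
  induction n using Nat.strongRecOn with
  | ind n ih =>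
    intro x hx
    rw [M_eq]
    rcases Nat.eq_zero_or_pos (n % p) with h | h
    · refine I.mul_mem_right _ (ih _ (Nat.div_lt_self (Nat.pos_of_ne_zero hn) hp.out.one_lt) ?_ (hdI x hx))
      intro h0
      exact hn (by rw [← Nat.div_add_mod n p, h0, h]; simp)
    · exact I.mul_mem_left _ (I.pow_mem_of_mem hx _ h)

include hdI h1 in
theorem M_mul : ∀ (s m n : ℕ), m + n = s → ∀ x ∈ I,
    ∃ c : ℕ, M p d m x * M p d n x = c * M p d (m + n) x ∧ c * (e p m * e p n) = e p (m + n) := by
  intro s
  induction s using Nat.strongRecOn with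
  | ind s ih =>
    intro m n hs x hx
    rcases Nat.eq_zero_or_pos m with rfl | hm
    · exact ⟨1, by rw [M_zero, zero_add, Nat.cast_one], by rw [e_zero, zero_add, one_mul, one_mul]⟩
    rcases Nat.eq_zero_or_pos n with rfl | hn
    · exact ⟨1, by rw [M_zero, add_zero, mul_one, Nat.cast_one, one_mul], by
        rw [e_zero, add_zero, one_mul, mul_one]⟩
    have hq : m / p + n / p < s := by
      have := Nat.div_lt_self hm hp.out.one_lt
      have := Nat.div_lt_self hn hp.out.one_lt
      omega
    obtain ⟨c₀, hc₀, he₀⟩ := ih _ hq _ _ rfl (d x) (hdI x hx)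
    have hr := Nat.mod_lt m hp.out.pos
    have hr' := Nat.mod_lt n hp.out.pos
    have hsum : m + n = p * (m / p + n / p) + (m % p + n % p) := by
      have := Nat.div_add_mod m p
      have := Nat.div_add_mod n p
      rw [mul_add]; omega
    rw [M_eq d m, M_eq d n, mul_mul_mul_comm, ← pow_add, hc₀]
    rw [e_eq m, e_eq n]
    rcases lt_or_ge (m % p + n % p) p with h | h
    · obtain ⟨e1, e2⟩ := div_mod_add (m / p + n / p) _ h
      refine ⟨c₀, ?_, ?_⟩
      · rw [M_eq d (m + n), hsum, e1, e2, mul_assoc]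
      · rw [e_eq (m + n), hsum, e1, ← he₀, pow_add]; ring
    · have hlt : m % p + n % p - p < p := by omega
      have hsum' : m + n = p * (m / p + n / p + 1) + (m % p + n % p - p) := by
        rw [mul_add p (m / p + n / p), mul_one]; omega
      have hlt' : m / p + n / p + 1 < s := by
        have h3 : 2 * (m / p + n / p + 1) ≤ p * (m / p + n / p + 1) := Nat.mul_le_mul_right _ hp.out.two_le
        omega
      obtain ⟨c₁, hc₁, he₁⟩ := ih _ hlt' _ 1 rfl (d x) (hdI x hx)
      rw [M_of_lt d hp.out.one_lt, pow_one] at hc₁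
      rw [e_of_lt hp.out.one_lt, mul_one] at he₁
      obtain ⟨e1, e2⟩ := div_mod_add (m / p + n / p + 1) _ hlt
      refine ⟨c₀ * c₁ * p.factorial, ?_, ?_⟩
      · rw [M_eq d (m + n), hsum', e1, e2, show m % p + n % p = p + (m % p + n % p - p) by omega, pow_add, ← h1 x hx,
          Nat.add_sub_cancel_left]
        calc (c₀ : A) * M p d (m / p + n / p) (d x) * ((p.factorial : A) * d x * x ^ (m % p + n % p - p))
            = (c₀ : A) * (p.factorial : A) * (M p d (m / p + n / p) (d x) * d x) * x ^ (m % p + n % p - p) := by ring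
          _ = _ := by rw [hc₁]; push_cast; ring
      · rw [e_eq (m + n), hsum', e1, ← he₁, ← he₀, pow_succ, pow_add]; ring

include hdI h1 in
theorem M_pow (m : ℕ) {x : A} (hx : x ∈ I) (k : ℕ) :
    ∃ c : ℕ, M p d m x ^ k = c * M p d (k * m) x ∧ c * e p m ^ k = e p (k * m) := by
  induction k with
  | zero => exact ⟨1, by simp [M_zero], by simp [e_zero]⟩
  | succ k ih =>
    obtain ⟨c, hc, he⟩ := ih
    obtain ⟨c', hc', he'⟩ := M_mul d hdI h1 _ (k * m) m rfl x hx
    refine ⟨c * c', ?_, ?_⟩
    · rw [pow_succ, hc, mul_assoc, hc', add_one_mul]; push_cast; ring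
    · rw [add_one_mul k m, ← he', ← he, pow_succ]; ring

include hdI h1 h2 in
theorem d_M : ∀ (i : ℕ), i ≠ 0 → ∀ x ∈ I,
    ∃ c : ℕ, d (M p d i x) = c * M p d (p * i) x ∧ c * (p.factorial * e p i ^ p) = e p (p * i) := by
  intro i
  induction i using Nat.strongRecOn with
  | ind i ih =>
    intro hi x hx
    rw [M_eq d i, e_mul_p, M_mul_p, e_eq i]
    have hsum : p * (i / p) + i % p = i := Nat.div_add_mod i p
    rcases Nat.eq_zero_or_pos (i % p) with h | h
    · rw [h, add_zero] at hsum
      have hq : i / p ≠ 0 := fun h0 => hi (by rw [← hsum, h0, mul_zero])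
      obtain ⟨c, hc, he⟩ := ih _ (Nat.div_lt_self (Nat.pos_of_ne_zero hi) hp.out.one_lt) hq (d x) (hdI x hx)
      rw [hsum] at hc he
      rw [e_eq i] at he
      refine ⟨c, by rw [h, pow_zero, mul_one, hc], ?_⟩
      rw [mul_pow, ← pow_mul, mul_comm (i / p) p, hsum, ← he]
      ring
    · obtain ⟨r, hr⟩ : ∃ r, i % p = r + 1 := ⟨i % p - 1, by omega⟩
      obtain ⟨c₀, hc₀, he₀⟩ := M_pow d hdI h1 (i / p) (hdI x hx) p
      obtain ⟨c₁, hc₁, he₁⟩ := M_mul d hdI h1 _ (p * (i / p)) (i % p) rfl (d x) (hdI x hx)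
      rw [M_of_lt d (Nat.mod_lt i hp.out.pos) (d x), hsum] at hc₁
      rw [e_of_lt (Nat.mod_lt i hp.out.pos), mul_one, hsum, e_eq i] at he₁
      refine ⟨c₀ * c₁ * p.factorial ^ r, ?_, ?_⟩
      · rw [hr, pow_succ, ← mul_assoc, h2 _ _ hx, mul_pow, ← pow_mul, mul_comm r p, pow_mul, ← h1 x hx, hc₀]
        calc (c₀ : A) * M p d (p * (i / p)) (d x) * ((p.factorial : A) * d x) ^ r * d x
            = (c₀ : A) * (p.factorial : A) ^ r * (M p d (p * (i / p)) (d x) * d x ^ (i % p)) := by
              rw [hr, mul_pow, pow_succ]; ring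
          _ = _ := by rw [hc₁]; push_cast; ring
      · calc c₀ * c₁ * p.factorial ^ r * (p.factorial * (p.factorial ^ (i / p) * e p (i / p)) ^ p)
            = p.factorial ^ (p * (i / p) + (r + 1)) * (c₁ * (c₀ * e p (i / p) ^ p)) := by
              rw [mul_pow, ← pow_mul, pow_add, pow_succ, mul_comm (i / p) p]; ring
          _ = _ := by rw [he₀, he₁, ← hr, hsum]

include h2 in
theorem M_smul : ∀ (n : ℕ) (a x : A), x ∈ I → (∀ y ∈ I, d y ∈ I) → M p d n (a * x) = a ^ n * M p d n x := by
  intro n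
  induction n using Nat.strongRecOn with
  | ind n ih =>
    intro a x hx hdI
    rcases Nat.eq_zero_or_pos n with rfl | hn
    · simp [M_zero]
    · rw [M_eq d n (a * x), M_eq d n x, h2 a x hx, ih _ (Nat.div_lt_self hn hp.out.one_lt) _ _ (hdI x hx) hdI,
        mul_pow, ← pow_mul]
      conv_rhs => rw [← Nat.div_add_mod n p, pow_add]
      simp only [Nat.div_add_mod]
      ring

/-- the candidate divided powers on `I` -/
noncomputable def g (p : ℕ) (d : A → A) (n : ℕ) (x : A) : A := phi p A (u p n) * M p d n x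

include hA in
theorem g_zero (x : A) : g p d 0 x = 1 := by
  rw [g, M_zero, u, e_zero, Nat.factorial_zero, Nat.cast_one, div_one, phi_one hA, one_mul]

include hA in
theorem g_one (x : A) : g p d 1 x = x := by
  rw [g, M_of_lt d hp.out.one_lt, u, e_of_lt hp.out.one_lt, Nat.factorial_one, Nat.cast_one, div_one, phi_one hA,
    one_mul, pow_one]

include hA hdI h1 in
theorem g_mul (m n : ℕ) {x : A} (hx : x ∈ I) :
    g p d m x * g p d n x = ((m + n).choose m : A) * g p d (m + n) x := by
  obtain ⟨c, hc, he⟩ := M_mul d hdI h1 _ m n rfl x hx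
  rw [g, g, g, mul_mul_mul_comm, hc, ← mul_assoc, ← mul_assoc, ← phi_natCast hA (p := p) c, ← phi_mul hA (good_u m) (good_u n),
    ← phi_mul hA (good_mul (good_u m) (good_u n)) (good_natCast c), ← phi_natCast hA (p := p) ((m + n).choose m),
    ← phi_mul hA (good_natCast _) (good_u _)]
  congr 2
  have he' : (c : ℚ) * (e p m * e p n) = e p (m + n) := by exact_mod_cast he
  have hf : (((m + n).choose m : ℕ) : ℚ) * (m.factorial * n.factorial) = (m + n).factorial := by
    rw [← mul_assoc]
    exact_mod_cast choose_fact m n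
  have hm : (m.factorial : ℚ) ≠ 0 := Nat.cast_ne_zero.2 m.factorial_ne_zero
  have hn : (n.factorial : ℚ) ≠ 0 := Nat.cast_ne_zero.2 n.factorial_ne_zero
  have hmn : ((m + n).factorial : ℚ) ≠ 0 := Nat.cast_ne_zero.2 (m + n).factorial_ne_zero
  rw [u, u, u, ← he']
  field_simp
  rw [← hf]
  ring

include hA hdI h1 h2 in
theorem d_g {i : ℕ} (hi : i ≠ 0) {x : A} (hx : x ∈ I) :
    ∃ K : ℚ, Good p K ∧ d (g p d i x) = phi p A K * g p d (p * i) x ∧
      K * (p.factorial * (i.factorial : ℚ) ^ p) = (p * i).factorial := by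
  obtain ⟨c, hc, he⟩ := d_M d hdI h1 h2 i hi x hx
  refine ⟨u p i ^ p * c * ((p * i).factorial / e p (p * i)),
    good_mul (good_mul (good_pow (good_u i) p) (good_natCast c)) (good_u_inv _), ?_, ?_⟩
  · rw [g, g, h2 _ _ (M_mem d hdI hi hx), hc, ← phi_pow hA (good_u i), ← phi_natCast hA (p := p) c, ← mul_assoc, ← mul_assoc,
      ← phi_mul hA (good_pow (good_u i) p) (good_natCast c),
      ← phi_mul hA (good_mul (good_mul (good_pow (good_u i) p) (good_natCast c)) (good_u_inv _)) (good_u _)]
    congr 2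
    have h0 : (e p (p * i) : ℚ) ≠ 0 := Nat.cast_ne_zero.2 (e_pos _).ne'
    have h3 : ((p * i).factorial : ℚ) ≠ 0 := Nat.cast_ne_zero.2 (p * i).factorial_ne_zero
    rw [u, u]
    field_simp
  · have h0 : (e p (p * i) : ℚ) ≠ 0 := Nat.cast_ne_zero.2 (e_pos _).ne'
    have h3 : (i.factorial : ℚ) ≠ 0 := Nat.cast_ne_zero.2 i.factorial_ne_zero
    have he' : (c : ℚ) * (p.factorial * (e p i : ℚ) ^ p) = e p (p * i) := by exact_mod_cast he
    rw [u, div_pow]
    field_simp
    linear_combination he'

section R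

/-- `z` is the image of the rational polynomial `P` in divided powers of `(x, y)` -/
inductive R (p : ℕ) (d : A → A) (x y : A) : A → AddMonoidAlgebra ℚ (ℕ × ℕ) → Prop
  | zero : R p d x y 0 0
  | add {z P w Q} : R p d x y z P → R p d x y w Q → R p d x y (z + w) (P + Q)
  | single (c : ℚ) (hc : Good p c) (i j : ℕ) : R p d x y (phi p A c * (g p d i x * g p d j y))
      (AddMonoidAlgebra.single (i, j) (c / (i.factorial * j.factorial)))

/-- the same without constant term -/
inductive RP (p : ℕ) (d : A → A) (x y : A) : A → AddMonoidAlgebra ℚ (ℕ × ℕ) → Prop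
  | zero : RP p d x y 0 0
  | add {z P w Q} : RP p d x y z P → RP p d x y w Q → RP p d x y (z + w) (P + Q)
  | single (c : ℚ) (hc : Good p c) (i j : ℕ) (hij : ¬ (i = 0 ∧ j = 0)) :
      RP p d x y (phi p A c * (g p d i x * g p d j y))
        (AddMonoidAlgebra.single (i, j) (c / (i.factorial * j.factorial)))

variable {x y : A}

theorem RP.toR {z : A} {P : AddMonoidAlgebra ℚ (ℕ × ℕ)} (h : RP p d x y z P) : R p d x y z P := by
  induction h with
  | zero => exact R.zero
  | add _ _ a b => exact R.add a b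
  | single c hc i j _ => exact R.single c hc i j

theorem R.sum {ι : Type*} (s : Finset ι) {z : ι → A} {P : ι → AddMonoidAlgebra ℚ (ℕ × ℕ)}
    (h : ∀ i ∈ s, R p d x y (z i) (P i)) : R p d x y (∑ i ∈ s, z i) (∑ i ∈ s, P i) := by
  classical
  induction s using Finset.induction_on with
  | empty => simpa using R.zero
  | insert a s ha ih =>
    rw [Finset.sum_insert ha, Finset.sum_insert ha]
    exact R.add (h a (Finset.mem_insert_self _ _)) (ih fun i hi => h i (Finset.mem_insert_of_mem hi))

theorem RP.sum {ι : Type*} (s : Finset ι) {z : ι → A} {P : ι → AddMonoidAlgebra ℚ (ℕ × ℕ)}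
    (h : ∀ i ∈ s, RP p d x y (z i) (P i)) : RP p d x y (∑ i ∈ s, z i) (∑ i ∈ s, P i) := by
  classical
  induction s using Finset.induction_on with
  | empty => simpa using RP.zero
  | insert a s ha ih =>
    rw [Finset.sum_insert ha, Finset.sum_insert ha]
    exact RP.add (h a (Finset.mem_insert_self _ _)) (ih fun i hi => h i (Finset.mem_insert_of_mem hi))

include hA in
theorem R.exists_finsupp {z : A} {P : AddMonoidAlgebra ℚ (ℕ × ℕ)} (h : R p d x y z P) :
    ∃ f : (ℕ × ℕ) →₀ ℚ, (∀ k, Good p (f k)) ∧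
      z = f.sum (fun k c => phi p A c * (g p d k.1 x * g p d k.2 y)) ∧
      ∀ k, P.coeff k = f k / (k.1.factorial * k.2.factorial) := by
  classical
  induction h with
  | zero => exact ⟨0, fun k => by simpa using good_natCast (p := p) 0, by simp, fun k => by simp⟩
  | add _ _ a b =>
    obtain ⟨f, hf, hfz, hfP⟩ := a
    obtain ⟨f', hf', hfz', hfP'⟩ := b
    refine ⟨f + f', fun k => good_add (hf k) (hf' k), ?_, fun k => by simp [hfP, hfP', add_div]⟩
    rw [hfz, hfz', Finsupp.sum_of_support_subset f (Finset.subset_union_left (s₂ := f'.support)) _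
        (fun k _ => by rw [phi_zero hA, zero_mul]),
      Finsupp.sum_of_support_subset f' (Finset.subset_union_right (s₁ := f.support)) _
        (fun k _ => by rw [phi_zero hA, zero_mul]),
      Finsupp.sum_of_support_subset (f + f') Finsupp.support_add _
        (fun k _ => by rw [phi_zero hA, zero_mul]), ← Finset.sum_add_distrib]
    exact Finset.sum_congr rfl fun k _ => by rw [Finsupp.add_apply, phi_add hA (hf k) (hf' k), add_mul]
  | single c hc i j =>
    refine ⟨Finsupp.single (i, j) c, fun k => ?_, ?_, fun k => ?_⟩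
    · rw [Finsupp.single_apply]; split_ifs
      · exact hc
      · simpa using good_natCast (p := p) 0
    · rw [Finsupp.sum_single_index (by rw [phi_zero hA, zero_mul])]
    · rw [AddMonoidAlgebra.coeff_single, Finsupp.single_apply, Finsupp.single_apply]
      split_ifs with hk
      · rw [← hk]
      · simp

include hA in
theorem R.eq {z w : A} {P : AddMonoidAlgebra ℚ (ℕ × ℕ)} (h : R p d x y z P) (h' : R p d x y w P) : z = w := by
  obtain ⟨f, -, rfl, hf⟩ := h.exists_finsupp hA
  obtain ⟨f', -, rfl, hf'⟩ := h'.exists_finsupp hA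
  have : f = f' := Finsupp.ext fun k => by
    have := (hf k).symm.trans (hf' k)
    rwa [div_left_inj' (mul_ne_zero (Nat.cast_ne_zero.2 (Nat.factorial_ne_zero _))
      (Nat.cast_ne_zero.2 (Nat.factorial_ne_zero _)))] at this
  rw [this]

include hA in
theorem RP.smul {z : A} {P : AddMonoidAlgebra ℚ (ℕ × ℕ)} {c : ℚ} (hc : Good p c) (h : RP p d x y z P) :
    RP p d x y (phi p A c * z) (c • P) := by
  induction h with
  | zero => simpa using RP.zero
  | add _ _ a b => rw [mul_add, smul_add]; exact RP.add a b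
  | single c' hc' i j hij =>
    rw [← mul_assoc, ← phi_mul hA hc hc', AddMonoidAlgebra.smul_single, smul_eq_mul, ← mul_div_assoc]
    exact RP.single _ (good_mul hc hc') i j hij

variable (hx : x ∈ I) (hy : y ∈ I)

include hA hdI h1 hx hy in
theorem RP.mul {z w : A} {P Q : AddMonoidAlgebra ℚ (ℕ × ℕ)} (h : RP p d x y z P) (h' : RP p d x y w Q) :
    RP p d x y (z * w) (P * Q) := by
  induction h with
  | zero => simpa using RP.zero
  | add _ _ a b => rw [add_mul, add_mul]; exact RP.add a b
  | single c hc i j hij =>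
    induction h' with
    | zero => simpa using RP.zero
    | add _ _ a b => rw [mul_add, mul_add]; exact RP.add a b
    | single c' hc' k l hkl =>
      have hz : phi p A c * (g p d i x * g p d j y) * (phi p A c' * (g p d k x * g p d l y)) =
          phi p A (c * c' * (i + k).choose i * (j + l).choose j) * (g p d (i + k) x * g p d (j + l) y) := by
        rw [phi_mul hA (good_mul (good_mul hc hc') (good_natCast _)) (good_natCast _),
          phi_mul hA (good_mul hc hc') (good_natCast _), phi_mul hA hc hc', phi_natCast hA, phi_natCast hA]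
        calc phi p A c * (g p d i x * g p d j y) * (phi p A c' * (g p d k x * g p d l y))
            = phi p A c * phi p A c' * ((g p d i x * g p d k x) * (g p d j y * g p d l y)) := by ring
          _ = _ := by rw [g_mul hA d hdI h1 i k hx, g_mul hA d hdI h1 j l hy]; ring
      have hP : AddMonoidAlgebra.single (i, j) (c / (i.factorial * j.factorial)) *
          AddMonoidAlgebra.single (k, l) (c' / (k.factorial * l.factorial)) =
          AddMonoidAlgebra.single (i + k, j + l) (c * c' * (i + k).choose i * (j + l).choose j /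
            ((i + k).factorial * (j + l).factorial)) := by
        rw [AddMonoidAlgebra.single_mul_single, Prod.mk_add_mk]
        congr 1
        rw [← choose_fact i k, ← choose_fact j l]
        have h3 : (((i + k).choose i : ℕ) : ℚ) ≠ 0 := Nat.cast_ne_zero.2 (Nat.choose_pos (Nat.le_add_right _ _)).ne'
        have h4 : (((j + l).choose j : ℕ) : ℚ) ≠ 0 := Nat.cast_ne_zero.2 (Nat.choose_pos (Nat.le_add_right _ _)).ne'
        push_cast
        field_simp
      rw [hz, hP]
      exact RP.single _ (good_mul (good_mul (good_mul hc hc') (good_natCast _)) (good_natCast _)) _ _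
        (by omega)

include hA hdI h1 hx hy in
theorem RP.pow {z : A} {P : AddMonoidAlgebra ℚ (ℕ × ℕ)} (h : RP p d x y z P) :
    ∀ n : ℕ, RP p d x y (z ^ (n + 1)) (P ^ (n + 1)) := by
  intro n
  induction n with
  | zero => simpa using h
  | succ n ih => rw [pow_succ _ (n + 1), pow_succ _ (n + 1)]; exact ih.mul hA d hdI h1 hx hy h

variable (h3 : ∀ x ∈ I, ∀ y ∈ I, d (x + y) = d x + d y +
      ((Finset.HasAntidiagonal.antidiagonal p).filter fun k => 0 < k.1 ∧ 0 < k.2).sum
        fun k => Ring.inverse ((k.1.factorial * k.2.factorial : ℕ) : A) * x ^ k.1 * y ^ k.2)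

include hdI hx hy in
theorem RP.mem {z : A} {P : AddMonoidAlgebra ℚ (ℕ × ℕ)} (h : RP p d x y z P) : z ∈ I := by
  induction h with
  | zero => exact zero_mem _
  | add _ _ a b => exact add_mem a b
  | single c _ i j hij =>
    refine I.mul_mem_left _ ?_
    by_cases hi : i = 0
    · exact I.mul_mem_left _ (I.mul_mem_left _ (M_mem d hdI (fun hj => hij ⟨hi, hj⟩) hy))
    · exact I.mul_mem_right _ (I.mul_mem_left _ (M_mem d hdI hi hx))

include hA in
theorem RP.single_one (i j : ℕ) (hij : ¬ (i = 0 ∧ j = 0)) : RP p d x y (g p d i x * g p d j y)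
    (AddMonoidAlgebra.single (i, j) ((1 : ℚ) / (i.factorial * j.factorial))) := by
  have h := RP.single (d := d) (x := x) (y := y) (1 : ℚ) (by simpa using good_natCast (p := p) 1) i j hij
  rwa [phi_one hA, one_mul] at h

theorem add_pow_div (P Q : AddMonoidAlgebra ℚ (ℕ × ℕ)) :
    ((p.factorial : ℚ)⁻¹) • (P + Q) ^ p = (p.factorial : ℚ)⁻¹ • P ^ p + (p.factorial : ℚ)⁻¹ • Q ^ p +
      ((Finset.HasAntidiagonal.antidiagonal p).filter fun k => 0 < k.1 ∧ 0 < k.2).sum
        fun k => ((1 : ℚ) / (k.1.factorial * k.2.factorial : ℕ)) • (P ^ k.1 * Q ^ k.2) := by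
  classical
  have hpos := hp.out.pos
  rw [(Commute.all P Q).add_pow', Finset.smul_sum, ← Finset.sum_filter_add_sum_filter_not
    (Finset.HasAntidiagonal.antidiagonal p) (fun k => 0 < k.1 ∧ 0 < k.2)]
  refine (add_comm _ _).trans (congrArg₂ (· + ·) ?_ (Finset.sum_congr rfl fun k hk => ?_))
  · have hset : (Finset.HasAntidiagonal.antidiagonal p).filter (fun k => ¬ (0 < k.1 ∧ 0 < k.2)) = {(p, 0), (0, p)} := by
      ext ⟨a, b⟩
      simp only [Finset.mem_filter, Finset.HasAntidiagonal.mem_antidiagonal, Finset.mem_insert, Finset.mem_singleton, Prod.mk.injEq]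
      omega
    rw [hset, Finset.sum_pair (by simp [Prod.ext_iff, hpos.ne'])]
    simp
  · obtain ⟨hk, -⟩ := Finset.mem_filter.1 hk
    rw [Finset.HasAntidiagonal.mem_antidiagonal] at hk
    rw [← Nat.cast_smul_eq_nsmul ℚ, smul_smul]
    congr 1
    subst hk
    rw [← choose_fact k.1 k.2]
    have h0 : (((k.1 + k.2).choose k.1 : ℕ) : ℚ) ≠ 0 := Nat.cast_ne_zero.2 (Nat.choose_pos (Nat.le_add_right _ _)).ne'
    push_cast
    field_simp

include hA hdI h1 h2 hx hy h3 in
theorem RP.map_d {z : A} {P : AddMonoidAlgebra ℚ (ℕ × ℕ)} (h : RP p d x y z P) :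
    RP p d x y (d z) ((p.factorial : ℚ)⁻¹ • P ^ p) := by
  induction h with
  | zero =>
    have h0 : d 0 = 0 := by
      have := h2 0 0 I.zero_mem
      rwa [mul_zero, zero_pow hp.out.ne_zero, zero_mul] at this
    rw [h0, zero_pow hp.out.ne_zero, smul_zero]
    exact RP.zero
  | @add z P w Q hz hw a b =>
    rw [h3 z (hz.mem d hdI hx hy) w (hw.mem d hdI hx hy), add_pow_div]
    refine RP.add (RP.add a b) (RP.sum _ _ fun k hk => ?_)
    obtain ⟨hk, hk1, hk2⟩ := Finset.mem_filter.1 hk
    rw [Finset.HasAntidiagonal.mem_antidiagonal] at hk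
    have hnd : ¬ p ∣ k.1.factorial * k.2.factorial := fun hd => by
      rcases hp.out.dvd_mul.1 hd with h | h <;> rw [hp.out.dvd_factorial] at h <;> omega
    rw [← phi_inv_natCast hA hnd, mul_assoc]
    obtain ⟨a', ha'⟩ := Nat.exists_eq_succ_of_ne_zero hk1.ne'
    obtain ⟨b', hb'⟩ := Nat.exists_eq_succ_of_ne_zero hk2.ne'
    refine RP.smul hA d (good_inv_natCast hnd) ?_
    rw [ha', hb']
    exact (hz.pow hA d hdI h1 hx hy a').mul hA d hdI h1 hx hy (hw.pow hA d hdI h1 hx hy b')
  | single c hc i j hij =>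
    have hbase : ∀ K : ℚ, Good p K → d (g p d i x * g p d j y) = phi p A K * (g p d (p * i) x * g p d (p * j) y) →
        K * (p.factorial * ((i.factorial : ℚ) * j.factorial) ^ p) = (p * i).factorial * (p * j).factorial →
        RP p d x y (d (phi p A c * (g p d i x * g p d j y)))
          ((p.factorial : ℚ)⁻¹ • AddMonoidAlgebra.single (i, j) (c / (i.factorial * j.factorial)) ^ p) := by
      intro K hK hdK hKq
      rw [h2 _ _ ((RP.single_one (x := x) (y := y) hA d i j hij).mem d hdI hx hy),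
        hdK, ← phi_pow hA hc, ← mul_assoc, ← phi_mul hA (good_pow hc p) hK, AddMonoidAlgebra.single_pow,
        AddMonoidAlgebra.smul_single, smul_eq_mul, Prod.smul_mk, smul_eq_mul, smul_eq_mul]
      convert RP.single (d := d) (x := x) (y := y) _ (good_mul (good_pow hc p) hK) (p * i) (p * j)
        (fun h => hij ⟨(mul_eq_zero.1 h.1).resolve_left hp.out.ne_zero, (mul_eq_zero.1 h.2).resolve_left hp.out.ne_zero⟩) using 2
      have : ((p * i).factorial : ℚ) * (p * j).factorial ≠ 0 :=
        mul_ne_zero (Nat.cast_ne_zero.2 (Nat.factorial_ne_zero _)) (Nat.cast_ne_zero.2 (Nat.factorial_ne_zero _))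
      have : (p.factorial : ℚ) ≠ 0 := Nat.cast_ne_zero.2 (Nat.factorial_ne_zero _)
      have : (i.factorial : ℚ) * j.factorial ≠ 0 :=
        mul_ne_zero (Nat.cast_ne_zero.2 (Nat.factorial_ne_zero _)) (Nat.cast_ne_zero.2 (Nat.factorial_ne_zero _))
      have : K ≠ 0 := fun h => by
        rw [h, zero_mul] at hKq
        exact ‹((p * i).factorial : ℚ) * (p * j).factorial ≠ 0› hKq.symm
      rw [← hKq, div_pow]
      field_simp
    by_cases hi : i = 0
    · subst hi
      obtain ⟨K, hK, hdK, hKq⟩ := d_g hA d hdI h1 h2 (fun hj => hij ⟨rfl, hj⟩) hy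
      refine hbase K hK ?_ (by simpa using hKq)
      simp only [mul_zero, g_zero hA, one_mul, hdK]
    by_cases hj : j = 0
    · subst hj
      obtain ⟨K, hK, hdK, hKq⟩ := d_g hA d hdI h1 h2 hi hx
      refine hbase K hK ?_ (by simpa using hKq)
      simp only [mul_zero, g_zero hA, mul_one, hdK]
    obtain ⟨K, hK, hdK, hKq⟩ := d_g hA d hdI h1 h2 hi hx
    obtain ⟨L, hL, hdL, hLq⟩ := d_g hA d hdI h1 h2 hj hy
    refine hbase (p.factorial * K * L) (good_mul (good_mul (good_natCast _) hK) hL) ?_ ?_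
    · have hix : g p d i x ∈ I := I.mul_mem_left _ (M_mem d hdI hi hx)
      rw [h2 (g p d i x) (g p d j y) (I.mul_mem_left _ (M_mem d hdI hj hy)), ← h1 _ hix, hdK, hdL,
        phi_mul hA (good_mul (good_natCast _) hK) hL, phi_mul hA (good_natCast _) hK, phi_natCast hA]
      ring
    · rw [← hKq, ← hLq, mul_pow]; ring

include hA hdI h1 h2 hx hy h3 in
theorem RP.map_M : ∀ (n : ℕ), n ≠ 0 → ∀ {z : A} {P : AddMonoidAlgebra ℚ (ℕ × ℕ)}, RP p d x y z P →
    RP p d x y (M p d n z) ((e p n : ℚ)⁻¹ • P ^ n) := by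
  intro n
  induction n using Nat.strongRecOn with
  | ind n ih =>
    intro hn z P h
    have hlt := Nat.div_lt_self (Nat.pos_of_ne_zero hn) hp.out.one_lt
    rw [M_eq, e_eq n]
    conv => arg 6; rw [← Nat.div_add_mod n p]; simp only [Nat.div_add_mod]
    have hsum := Nat.div_add_mod n p
    have hz := h.map_d hA d hdI h1 h2 hx hy h3
    by_cases hq : n / p = 0
    · have hlt' : n < p := (Nat.div_eq_zero_iff.1 hq).resolve_left hp.out.ne_zero
      obtain ⟨k, rfl⟩ := Nat.exists_eq_succ_of_ne_zero hn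
      rw [hq, M_zero, one_mul, e_zero, Nat.mod_eq_of_lt hlt']
      simpa using h.pow hA d hdI h1 hx hy k
    · have h1' := ih _ hlt hq hz
      have key : ∀ {r : ℕ} {W : A}, RP p d x y W ((e p (n / p) : ℚ)⁻¹ • ((p.factorial : ℚ)⁻¹ • P ^ p) ^ (n / p) * P ^ r) →
          n % p = r → RP p d x y W (((p.factorial ^ (n / p) * e p (n / p) : ℕ) : ℚ)⁻¹ • P ^ n) := by
        intro r W hW hr
        convert hW using 1
        rw [smul_pow, ← pow_mul, smul_smul, smul_mul_assoc, ← pow_add, ← hr, hsum]
        congr 1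
        push_cast
        rw [mul_inv, inv_pow, mul_comm]
      rcases Nat.eq_zero_or_pos (n % p) with h0 | h0
      · refine key ?_ rfl
        rw [h0, pow_zero, mul_one, pow_zero, mul_one]
        exact h1'
      · obtain ⟨r, hr⟩ := Nat.exists_eq_succ_of_ne_zero h0.ne'
        refine key ?_ rfl
        rw [hr]
        exact h1'.mul hA d hdI h1 hx hy (h.pow hA d hdI h1 hx hy r)

include hA hdI h1 h2 hx hy h3 in
theorem RP.map_g {n : ℕ} (hn : n ≠ 0) {z : A} {P : AddMonoidAlgebra ℚ (ℕ × ℕ)} (h : RP p d x y z P) :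
    RP p d x y (g p d n z) ((n.factorial : ℚ)⁻¹ • P ^ n) := by
  have := (h.map_M hA d hdI h1 h2 hx hy h3 n hn).smul hA d (good_u n)
  rw [smul_smul] at this
  have he0 : (e p n : ℚ) ≠ 0 := Nat.cast_ne_zero.2 (e_pos n).ne'
  rw [show ((n.factorial : ℚ)⁻¹) = u p n * (e p n : ℚ)⁻¹ by rw [u]; field_simp]
  exact this

include hA hdI h1 h2 hx hy h3 in
theorem g_add (n : ℕ) : g p d n (x + y) = ∑ k ∈ Finset.HasAntidiagonal.antidiagonal n, g p d k.1 x * g p d k.2 y := by
  rcases Nat.eq_zero_or_pos n with rfl | hn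
  · simp [g_zero hA]
  have hxy : RP p d x y (x + y) (AddMonoidAlgebra.single (1, 0) 1 + AddMonoidAlgebra.single (0, 1) 1) := by
    have a := RP.single_one (x := x) (y := y) hA d 1 0 (by simp)
    have b := RP.single_one (x := x) (y := y) hA d 0 1 (by simp)
    simp only [g_one hA, g_zero hA, mul_one, one_mul, Nat.factorial, Nat.cast_one, div_one] at a b
    exact RP.add a b
  refine (hxy.map_g hA d hdI h1 h2 hx hy h3 hn.ne').toR d |>.eq hA d ?_
  rw [(Commute.all _ _).add_pow', Finset.smul_sum]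
  refine R.sum d _ fun k hk => ?_
  rw [Finset.HasAntidiagonal.mem_antidiagonal] at hk
  subst hk
  convert (RP.single_one (x := x) (y := y) hA d k.1 k.2 (by omega)).toR d using 1
  rw [AddMonoidAlgebra.single_pow, AddMonoidAlgebra.single_pow, AddMonoidAlgebra.single_mul_single,
    ← Nat.cast_smul_eq_nsmul ℚ, smul_smul, AddMonoidAlgebra.smul_single, smul_eq_mul, one_pow, one_pow, mul_one,
    mul_one, ← choose_fact k.1 k.2]
  congr 1
  · simp
  · have h0 : (((k.1 + k.2).choose k.1 : ℕ) : ℚ) ≠ 0 := Nat.cast_ne_zero.2 (Nat.choose_pos (Nat.le_add_right _ _)).ne'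
    push_cast
    field_simp

include hA hdI h1 h2 hx h3 in
theorem g_comp {m n : ℕ} (hn : n ≠ 0) : g p d m (g p d n x) = (Nat.uniformBell m n : A) * g p d (m * n) x := by
  rcases Nat.eq_zero_or_pos m with rfl | hm
  · simp [g_zero hA, Nat.uniformBell_eq]
  have hmn : m * n ≠ 0 := mul_ne_zero hm.ne' hn
  have h4 : RP p d x x (g p d n x) (AddMonoidAlgebra.single (n, 0) ((1 : ℚ) / n.factorial)) := by
    simpa [g_zero hA] using RP.single_one (x := x) (y := x) hA d n 0 (by simp [hn])
  refine (h4.map_g hA d hdI h1 h2 hx hx h3 hm.ne').toR d |>.eq hA d ?_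
  have h5 := R.single (d := d) (x := x) (y := x) (Nat.uniformBell m n : ℚ) (good_natCast (p := p) _) (m * n) 0
  rw [phi_natCast hA, g_zero hA, mul_one] at h5
  convert h5 using 1
  rw [AddMonoidAlgebra.single_pow, AddMonoidAlgebra.smul_single, Prod.smul_mk, smul_eq_mul, smul_eq_mul, smul_eq_mul,
    mul_zero, ← Nat.uniformBell_mul_eq m hn]
  congr 1
  have h0 : ((Nat.uniformBell m n : ℕ) : ℚ) ≠ 0 := Nat.cast_ne_zero.2 fun h => by
    have := Nat.uniformBell_mul_eq m hn
    rw [h] at this
    exact Nat.factorial_ne_zero (m * n) (by simpa using this.symm)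
  rw [Nat.factorial_zero, div_pow, one_pow]
  push_cast
  field_simp

end R

theorem existsUnique (p : ℕ) (hp : p.Prime) (hA : ∀ n : ℕ, ¬ p ∣ n → IsUnit (n : A)) (d : A → A)
    (hdI : ∀ x ∈ I, d x ∈ I) (h1 : ∀ x ∈ I, (p.factorial : A) * d x = x ^ p)
    (h2 : ∀ (a x : A), x ∈ I → d (a * x) = a ^ p * d x)
    (h3 : ∀ x ∈ I, ∀ y ∈ I, d (x + y) = d x + d y +
      ((Finset.HasAntidiagonal.antidiagonal p).filter fun k => 0 < k.1 ∧ 0 < k.2).sum
        fun k => Ring.inverse ((k.1.factorial * k.2.factorial : ℕ) : A) * x ^ k.1 * y ^ k.2) :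
    ∃! γ : DividedPowers I, ∀ x ∈ I, γ.dpow p x = d x := by
  classical
  have := Fact.mk hp
  let γ : DividedPowers I :=
    { dpow := fun n x => if x ∈ I then g p d n x else 0
      dpow_null := fun hx => if_neg hx
      dpow_zero := fun hx => by rw [if_pos hx, g_zero hA]
      dpow_one := fun hx => by rw [if_pos hx, g_one hA]
      dpow_mem := fun hn hx => by rw [if_pos hx]; exact I.mul_mem_left _ (M_mem d hdI hn hx)
      dpow_add := fun {n x y} hx hy => by
        rw [if_pos (add_mem hx hy), g_add hA d hdI h1 h2 hx hy h3]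
        exact Finset.sum_congr rfl fun k _ => by rw [if_pos hx, if_pos hy]
      dpow_mul := fun {n a x} hx => by
        rw [if_pos (I.mul_mem_left a hx), if_pos hx, g, g, M_smul d h2 n a x hx hdI]; ring
      mul_dpow := fun {m n x} hx => by rw [if_pos hx, if_pos hx, if_pos hx, g_mul hA d hdI h1 m n hx]
      dpow_comp := fun {m n x} hn hx => by
        rw [if_pos hx, if_pos (show g p d n x ∈ I from I.mul_mem_left _ (M_mem d hdI hn hx)), if_pos hx,
          g_comp hA d hdI h1 h2 hx h3 hn] }
  have hγ : ∀ n, ∀ x ∈ I, γ.dpow n x = g p d n x := fun n x hx => if_pos hx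
  refine ⟨γ, fun x hx => ?_, fun γ' hγ' => DividedPowers.ext _ _ fun {n} {x} hx => ?_⟩
  · rw [hγ p x hx, g, u, e_eq p, Nat.div_self hp.pos, pow_one, e_of_lt hp.one_lt, mul_one,
      div_self (Nat.cast_ne_zero.2 p.factorial_ne_zero), phi_one hA, one_mul, M_eq, Nat.div_self hp.pos,
      Nat.mod_self, pow_zero, mul_one, M_of_lt d hp.one_lt, pow_one]
  · rw [hγ n x hx]
    induction n using Nat.strongRecOn generalizing x with
    | ind n ih =>
      rcases Nat.eq_zero_or_pos n with rfl | hn
      · rw [γ'.dpow_zero hx, g_zero hA]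
      have hq := ih _ (Nat.div_lt_self hn hp.one_lt) (hdI x hx)
      rw [← hγ' x hx, γ'.dpow_comp hp.ne_zero hx, hγ' x hx] at hq
      have hmul := γ'.mul_dpow (m := n / p * p) (n := n % p) hx
      rw [Nat.div_add_mod'] at hmul
      have hfac := γ'.factorial_mul_dpow_eq_pow (n := n % p) hx
      rw [g] at hq ⊢
      rw [M_eq d n, ← hfac]
      set B := Nat.uniformBell (n / p) p
      set C := n.choose (n / p * p)
      -- `γ' (n) * (B * C * r!) = g (n/p) (d x) * r! * γ' r`
      have hBC : (B : A) * C * ((n % p).factorial : A) * γ'.dpow n x =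
          phi p A (u p (n / p)) * (M p d (n / p) (d x) * (((n % p).factorial : A) * γ'.dpow (n % p) x)) := by
        rw [← mul_assoc (phi p A (u p (n / p))), ← hq]
        calc (B : A) * C * ((n % p).factorial : A) * γ'.dpow n x
            = (B : A) * ((n % p).factorial : A) * ((C : A) * γ'.dpow n x) := by ring
          _ = _ := by rw [← hmul]; ring
      have hval : u p n / u p (n / p) * ((B : ℚ) * C * (n % p).factorial) = 1 := by
        have hb := Nat.uniformBell_mul_eq (n / p) hp.ne_zero
        have hc := choose_fact (n / p * p) (n % p)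
        rw [Nat.div_add_mod', ← hb] at hc
        have hc' : (C : ℚ) * ((B : ℚ) * (p.factorial : ℚ) ^ (n / p) * (n / p).factorial) * (n % p).factorial =
            n.factorial := by exact_mod_cast hc
        rw [u, u, e_eq n, Nat.cast_mul, Nat.cast_pow]
        have h0 : (e p (n / p) : ℚ) ≠ 0 := Nat.cast_ne_zero.2 (e_pos _).ne'
        have h4 : (n.factorial : ℚ) ≠ 0 := Nat.cast_ne_zero.2 n.factorial_ne_zero
        field_simp
        rw [← hc']
        ring
      have hgood : Good p (u p n / u p (n / p)) := by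
        rw [show u p n / u p (n / p) = u p n * ((n / p).factorial / e p (n / p)) by rw [u, u, div_eq_mul_inv _ ((e p (n / p) : ℚ) / _), inv_div]]
        exact good_mul (good_u n) (good_u_inv _)
      have hphi := congrArg (phi p A) hval
      rw [phi_mul hA hgood (good_mul (good_mul (good_natCast _) (good_natCast _)) (good_natCast _)),
        phi_mul hA (good_mul (good_natCast _) (good_natCast _)) (good_natCast _),
        phi_mul hA (good_natCast _) (good_natCast _), phi_natCast hA, phi_natCast hA, phi_natCast hA, phi_one hA] at hphi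
      have hun : phi p A (u p n) = phi p A (u p n / u p (n / p)) * phi p A (u p (n / p)) := by
        rw [← phi_mul hA hgood (good_u _), div_mul_cancel₀]
        exact div_ne_zero (Nat.cast_ne_zero.2 (e_pos _).ne') (Nat.cast_ne_zero.2 (Nat.factorial_ne_zero _))
      rw [hun, mul_assoc (phi p A (u p n / u p (n / p))), ← hBC, ← mul_assoc, hphi, one_mul]

end Groth.Agent.DPowGammaP
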